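import Groth.Agent.H10Coh.SerreVanishing
import Groth.Agent.H11Ample.Restrict
import Groth.Agent.H29Blow.IdealMod
import Groth.Agent.H17.PullSect
import Groth.Agent.H12Pic.CurveFam.ComapIdeal
import Groth.Agent.H28Lift.ExtLine
import Groth.Agent.H7Flat.CohDim.AffineStrat
import Groth.Agent.H10Coh.HHSeq
import Groth.Agent.H10Coh.ExtPowFree

/-!
# The sequence of a closed subscheme, twisted by an invertible module
-/

set_option autoImplicit false
set_option linter.style.haveILetI false
set_option backward.isDefEq.respectTransparency.types false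

noncomputable section

universe u

open CategoryTheory CategoryTheory.Limits AlgebraicGeometry Opposite TopologicalSpace
open Groth.Agent.H11Tilde Groth.Agent.H11Ample

namespace Groth.Agent.H10Coh.CI

variable {X Y : Scheme.{u}} (g : X ⟶ Y) (N : Y.Modules)

/-- `I ⊗ N ⟶ N` for the ideal of `g`. -/
def twistPairing : Pairing (ClSub.idealMod g.ker) N N where
  toFun U z n := OmegaSh.idealSect g.ker U z • n
  add_left U z z' n := by rw [map_add, add_smul]
  smul_left U r z n := by rw [H29Blow.idealSect_smul, mul_smul]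
  add_right U z n n' := smul_add _ _ _
  smul_right U r z n := smul_comm _ _ _
  res U V h z n := by
    rw [H29Blow.idealSect_res]
    exact Scheme.Modules.map_smul N (homOfLE h) _ _

/-- The unit of the adjunction, as a map to `g_*g^*N`. -/
def unitMap : N ⟶ (Coh.push g).obj ((Scheme.Modules.pullback g).obj N) :=
  (Scheme.Modules.pullbackPushforwardAdjunction g).unit.app N

theorem unitMap_apply (U : Y.Opens) (n : Γ(N, U)) : (unitMap g N).app U n = OmegaSh.pullSect g N U n := rfl

variable [IsClosedImmersion g]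

set_option linter.unusedSectionVars false

theorem app_idealSect (U : Y.Opens) (z : Γ(ClSub.idealMod g.ker, U)) :
    g.app U (OmegaSh.idealSect g.ker U z) = 0 := by
  have h : g.ker.subschemeι.app U (OmegaSh.idealSect g.ker U z) = 0 := by
    show (ClSub.idealModι g.ker ≫ ClSub.toSubscheme g.ker).app U z = 0
    rw [show ClSub.idealModι g.ker ≫ ClSub.toSubscheme g.ker = 0 from kernel.condition _]
    rfl
  have key : ∀ (f : X ⟶ Y) (_ : f = g.toImage ≫ g.ker.subschemeι), f.app U (OmegaSh.idealSect g.ker U z) = 0 := by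
    rintro f rfl
    rw [Scheme.Hom.comp_app]
    exact (congrArg (fun c => (g.toImage.app (g.ker.subschemeι ⁻¹ᵁ U)).hom c) h).trans
      (map_zero (g.toImage.app (g.ker.subschemeι ⁻¹ᵁ U)).hom)
  exact key g g.toImage_imageι.symm

theorem zero_comp : tensorDesc (twistPairing g N) ≫ unitMap g N = 0 ∨ ¬ PicF.IsInvertible N := by
  by_cases hN : PicF.IsInvertible N
  swap
  · exact Or.inr hN
  refine Or.inl (Scheme.Modules.hom_ext _ _ fun W => ?_)
  ext t
  refine eq_of_locally _ _ fun x hx => ?_
  obtain ⟨V, hV, e, z, hxV, -, hm⟩ := Tw.exists_eq_tm hN t hx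
  refine ⟨V, hV, hxV, ?_⟩
  rw [← app_map_apply, hm]
  refine Eq.trans (congrArg ((unitMap g N).app V) (tensorDesc_tm _ z e)) ?_
  refine Eq.trans ?_ (map_zero _).symm
  show OmegaSh.pullSect g N V (OmegaSh.idealSect g.ker V z • e) = 0
  rw [OmegaSh.pullSect_smul, app_idealSect, zero_smul]

variable {N} (hN : PicF.IsInvertible N)

/-- The sequence `0 ⟶ I ⊗ N ⟶ N ⟶ g_*g^*N ⟶ 0`. -/
def closedSeq : ShortComplex Y.Modules :=
  ShortComplex.mk _ _ ((zero_comp g N).resolve_right (not_not_intro hN))

/-- Sections of the sequence on a small affine open. -/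
theorem exists_affine_gen (hN : PicF.IsInvertible N) {W : Y.Opens} {y : Y} (hy : y ∈ W) :
    ∃ (V : Y.Opens) (_ : V ≤ W) (e : Γ(N, V)), y ∈ V ∧ IsAffineOpen V ∧ IsGen N e := by
  obtain ⟨O, e, hyO, he⟩ := exists_gen hN y
  obtain ⟨V, hV, hyV, hle⟩ := exists_isAffineOpen_mem_and_subset (U := W ⊓ O) (x := y) ⟨hy, hyO⟩
  exact ⟨V, fun z hz => (hle hz).1, _, hyV, hV, he.res (fun z hz => (hle hz).2)⟩

theorem app_surjective {V : Y.Opens} (hV : IsAffineOpen V) : Function.Surjective (g.app V) := by
  have key : ∀ (f : X ⟶ Y) (_ : f = g.toImage ≫ g.ker.subschemeι), Function.Surjective (f.app V) := by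
    rintro f rfl
    rw [Scheme.Hom.comp_app]
    exact (ConcreteCategory.bijective_of_isIso (g.toImage.app _)).2.comp
      (g.ker.subschemeι_app_surjective ⟨V, hV⟩)
  exact key g g.toImage_imageι.symm

theorem mem_ideal_of_app_eq_zero {V : Y.Opens} (hV : IsAffineOpen V) {a : Γ(Y, V)} (ha : g.app V a = 0) :
    a ∈ g.ker.ideal ⟨V, hV⟩ := by
  rw [Scheme.Hom.ker_apply]
  exact ha

theorem closedSeq_shortExact : (closedSeq g hN).ShortExact := by
  refine { exact := exact_of_locally _ fun W t ht x hx => ?_, mono_f := ?_, epi_g := ?_ }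
  · obtain ⟨V, hV, e, hxV, hVa, he⟩ := exists_affine_gen hN hx
    obtain ⟨c, hc⟩ := exists_coeff he (N.presheaf.map (homOfLE hV).op t)
    have h0 : OmegaSh.pullSect g N V (N.presheaf.map (homOfLE hV).op t) = 0 := by
      rw [← unitMap_apply]
      refine (app_map_apply _ _ _).trans ?_
      exact (congrArg _ ht).trans (map_zero _)
    rw [hc, OmegaSh.pullSect_smul] at h0
    have hgen := (IsGen.pullSect g he).bijective le_rfl
    have hc0 : g.app V c = 0 := hgen.1 (by
      beta_reduce
      rw [mres_self, h0, zero_smul])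
    obtain ⟨z, hz⟩ := (H29Blow.mem_ideal_iff_exists_idealSect g.ker hVa c).1 (mem_ideal_of_app_eq_zero g hVa hc0)
    refine ⟨V, hV, hxV, tm z e, ?_⟩
    refine (tensorDesc_tm _ z e).trans ?_
    show OmegaSh.idealSect g.ker V z • e = _
    rw [hz]
    exact hc.symm
  · refine mono_of_injective _ fun W t ht x hx => ?_
    obtain ⟨V, hV, e, z, hxV, he, hm⟩ := Tw.exists_eq_tm hN t hx
    refine ⟨V, hV, hxV, ?_⟩
    have h1 : OmegaSh.idealSect g.ker V z • e = 0 := by
      refine (tensorDesc_tm (twistPairing g N) z e).symm.trans ?_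
      rw [← hm]
      refine (app_map_apply _ _ _).trans ?_
      exact (congrArg _ ht).trans (map_zero _)
    have hz : OmegaSh.idealSect g.ker V z = 0 := (he.bijective le_rfl).1 (by
      beta_reduce
      rw [mres_self, h1, zero_smul])
    refine hm.trans ?_
    rw [H29Blow.idealSect_injective g.ker V (hz.trans (map_zero _).symm), tm_zero_left]
    rfl
  · show Epi (unitMap g N)
    refine @H11Tilde.epi_of_locally_surjective Y _ _ (unitMap g N) fun W t x hx => ?_
    obtain ⟨V, hV, e, hxV, hVa, he⟩ := exists_affine_gen hN hx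
    obtain ⟨c, hc⟩ := ((IsGen.pullSect g he).bijective (g.preimage_mono (le_refl V))).2
      (((Coh.push g).obj ((Scheme.Modules.pullback g).obj N)).presheaf.map (homOfLE hV).op t)
    obtain ⟨a, ha⟩ := app_surjective g hVa c
    refine ⟨V, hV, hxV, a • e, ?_⟩
    show OmegaSh.pullSect g N V (a • e) = _
    rw [OmegaSh.pullSect_smul, ha, ← hc]
    beta_reduce
    rw [mres_self]

include hN in
/-- Vanishing on a closed subscheme from vanishing on the ambient scheme. -/
theorem subsingleton_HH_closed [((Scheme.Modules.pullback g).obj N).IsQuasicoherent] {p : ℕ}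
    (h₂ : Subsingleton (Coh.HH Y N p))
    (h₁ : Subsingleton (Coh.HH Y (CohB1.tensorMod (ClSub.idealMod g.ker) N) (p + 1))) :
    Subsingleton (Coh.HH X ((Scheme.Modules.pullback g).obj N) p) :=
  @Equiv.subsingleton _ _ (H7Flat.CohDim.lerayHH g ((Scheme.Modules.pullback g).obj N) p).toEquiv.symm
    (HHSeq.subsingleton₃ (closedSeq_shortExact g hN) h₂ h₁)

include hN in
theorem surjective_pullSect
    (h₁ : Subsingleton (Coh.HH Y (CohB1.tensorMod (ClSub.idealMod g.ker) N) 1)) :
    Function.Surjective (OmegaSh.pullSect g N ⊤) :=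
  H28Lift.surjective_app_top (closedSeq_shortExact g hN) h₁

end Groth.Agent.H10Coh.CI
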