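import Groth.Agent.H25Transversal.HypChart
import Groth.Agent.H11Tilde.TwistInv
import Groth.Agent.H11Tilde.StalkGen
import Groth.Agent.H11Tilde.GammaStar.Ratio
import Groth.Agent.H28Vert.IdealProd
import Groth.Agent.H11Ample.Basic
import Groth.Agent.LeadPic.ProjGeneric
import Groth.Agent.H10Coh.Pn.HyperPn

/-!
# The ideal module of a hypersurface
-/

set_option autoImplicit false
set_option linter.style.haveILetI false
set_option backward.isDefEq.respectTransparency.types false

noncomputable section

universe u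

open CategoryTheory AlgebraicGeometry TopologicalSpace Opposite LefPen
open Groth.Agent.H11Tilde Groth.Agent.H11Ample

namespace Groth.Agent.H10Coh.CI

variable {k : Type u} [Field k] {n d : ℕ}

theorem exists_chart_mem (x : CohB1.ProjSpace n k) : ∃ i : Fin (n + 1), x ∈ chart n k i := by
  obtain ⟨i, hi⟩ := exists_mem_basicOpen_X (n := n) (R := k) x
  exact ⟨i, hi⟩

theorem fval_dehom (G : Form n k d) (i : Fin (n + 1)) (x : chart n k i) :
    fval (CohB1.polyGrading n k) (dehom G i) x =
      Localization.mk G.1 ⟨MvPolynomial.X i ^ d, pow_notMem (CohB1.polyGrading n k) x.2 d⟩ :=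
  fval_awayToSection (CohB1.polyGrading n k) (X_mem n k i) d G.1 _ x

theorem dehom_ne_zero (G : Form n k d) (hG : G.1 ≠ 0) (i : Fin (n + 1)) : dehom G i ≠ 0 := by
  intro h
  have hbij := ConcreteCategory.bijective_of_isIso
    (Proj.basicOpenIsoAway (CohB1.polyGrading n k) (MvPolynomial.X i) (X_mem n k i) one_pos).hom
  have h1 : HomogeneousLocalization.Away.mk (CohB1.polyGrading n k) (X_mem n k i) d G.1
      (by rw [smul_eq_mul, mul_one]; exact G.2) = 0 := hbij.1 (h.trans (map_zero _).symm)
  have h2 := congrArg HomogeneousLocalization.val h1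
  rw [HomogeneousLocalization.Away.val_mk, HomogeneousLocalization.val_zero, Localization.mk_eq_mk',
    IsLocalization.mk'_eq_zero_iff] at h2
  obtain ⟨⟨_, m, rfl⟩, hm⟩ := h2
  exact hG ((mul_eq_zero.1 hm).resolve_left (pow_ne_zero _ (MvPolynomial.X_ne_zero i)))

theorem dehom_mem_nonZeroDivisors (G : Form n k d) (hG : G.1 ≠ 0) (i : Fin (n + 1)) :
    dehom G i ∈ nonZeroDivisors Γ(CohB1.ProjSpace n k, chart n k i) := by
  haveI := Hyper.isIntegral_pn k n
  haveI : Nonempty (chart n k i).toScheme :=
    ⟨⟨(LeadPic.genericPt (CohB1.polyGrading n k) Nat.one_pos (MvPolynomial.isHomogeneous_X k i)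
      (MvPolynomial.X_ne_zero i) : Proj (CohB1.polyGrading n k)),
      fun h => MvPolynomial.X_ne_zero i ((Submodule.mem_bot _).1 h)⟩⟩
  exact mem_nonZeroDivisors_of_ne_zero (dehom_ne_zero G hG i)

theorem isEffCartierIdeal_hypIdeal (G : Form n k d) (hG : G.1 ≠ 0) : BlowUp.IsEffCartierIdeal (hypIdeal G) := by
  intro x
  obtain ⟨i, hi⟩ := exists_chart_mem x
  exact ⟨H25Transversal.chartU n k i, hi, dehom G i, dehom_mem_nonZeroDivisors G hG i,
    H25Transversal.hypIdeal_ideal_chart G i⟩

/-- The generator `X_i ^ (-d)` of `O(-d)` on a chart. -/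
def genNeg (d : ℕ) (i : Fin (n + 1)) : Γ(Twist.twistProjSpace n k (-(d : ℤ)), chart n k i) :=
  secOf (CohB1.polyGrading n k) (CohB1.polyGrading n k) (SetLike.one_mem_graded (CohB1.polyGrading n k))
    (show MvPolynomial.X i ^ d ∈ CohB1.polyGrading n k d from by
      simpa using SetLike.pow_mem_graded d (X_mem n k i))
    (V := chart n k i) (fun x hx => pow_notMem (CohB1.polyGrading n k) hx d) (by simp)

theorem isGen_genNeg (i : Fin (n + 1)) : IsGen (Twist.twistProjSpace n k (-(d : ℤ))) (genNeg (k := k) d i) := by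
  refine isGen_of_bijective fun W hW => ?_
  exact bijective_smul_gen (CohB1.polyGrading n k) (p := 0) (q := d) (a := 1) (b := MvPolynomial.X i ^ d)
    (SetLike.one_mem_graded (CohB1.polyGrading n k))
    (by simpa using SetLike.pow_mem_graded d (X_mem n k i))
    (fun x _ h => x.isPrime.ne_top ((Ideal.eq_top_iff_one _).2 h))
    (fun x hx => pow_notMem (CohB1.polyGrading n k) (hW hx) d) (by simp) _ fun x => rfl

theorem nonempty_idealMod_hypIdeal (G : Form n k d) (hG : G.1 ≠ 0) :
    Nonempty (ClSub.idealMod (hypIdeal G) ≅ Twist.twistProjSpace n k (-(d : ℤ))) := by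
  have hE := isEffCartierIdeal_hypIdeal G hG
  have hz : ∀ i : Fin (n + 1), ∃ z : Γ(ClSub.idealMod (hypIdeal G), chart n k i),
      OmegaSh.idealSect (hypIdeal G) (chart n k i) z = dehom G i := fun i =>
    (H29Blow.mem_ideal_iff_exists_idealSect (hypIdeal G) (H25Transversal.chartU n k i).2 _).1
      (by
        show dehom G i ∈ (hypIdeal G).ideal (H25Transversal.chartU n k i)
        rw [H25Transversal.hypIdeal_ideal_chart]
        exact Ideal.mem_span_singleton_self _)
  choose z hz using hz
  have hzgen : ∀ i, IsGen (ClSub.idealMod (hypIdeal G)) (z i) := fun i =>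
    H28Vert.isGen_idealSect hE (H25Transversal.chartU n k i).2 (e := z i)
      ((H25Transversal.hypIdeal_ideal_chart G i).trans (congrArg (fun c => Ideal.span {c}) (hz i).symm))
  obtain ⟨φ, -⟩ := exists_iso_of_gen (fun i => chart n k i) exists_chart_mem (fun i => genNeg (k := k) d i)
    isGen_genNeg z hzgen fun i j u hu => by
      refine H29Blow.idealSect_injective (hypIdeal G) _ ?_
      rw [H29Blow.idealSect_res, H29Blow.idealSect_smul, H29Blow.idealSect_res, hz, hz]
      refine fval_ext (CohB1.polyGrading n k) fun x => ?_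
      refine (fval_map (CohB1.polyGrading n k) inf_le_left (dehom G i) x).trans ?_
      refine Eq.trans ?_ (fval_mul (CohB1.polyGrading n k) u _ x).symm
      refine (fval_dehom G i _).trans ?_
      refine Eq.trans ?_ (congrArg (_ * ·) ((fval_map (CohB1.polyGrading n k) inf_le_right (dehom G j) x).trans
        (fval_dehom G j _)).symm)
      have h1 : (Localization.mk 1 ⟨MvPolynomial.X i ^ d, pow_notMem (CohB1.polyGrading n k) x.2.1 d⟩ :
            GrTwist.Loc (CohB1.polyGrading n k) x.1) =
          fval (CohB1.polyGrading n k) u x *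
            Localization.mk 1 ⟨MvPolynomial.X j ^ d, pow_notMem (CohB1.polyGrading n k) x.2.2 d⟩ :=
        congrArg (fun t => sval (CohB1.polyGrading n k) (CohB1.polyGrading n k) t x) hu
      have h2 : ∀ s, (Localization.mk G.1 s : GrTwist.Loc (CohB1.polyGrading n k) x.1) =
          algebraMap _ _ G.1 * Localization.mk 1 s := fun s => by
        rw [← Localization.mk_one_eq_algebraMap, Localization.mk_mul, mul_one, one_mul]
      rw [h2, h2 ⟨MvPolynomial.X j ^ d, _⟩, h1]
      exact mul_left_comm _ _ _
  exact ⟨φ.symm⟩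

end Groth.Agent.H10Coh.CI
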