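import Groth.Agent.H10Coh.CI.Seq
import Groth.Agent.H8Props.Stein.Connected
import Groth.Agent.H12Pic.InvDesc.Trivial
import Groth.Agent.H16Derived.KFlat.FinLocFree
import Groth.Agent.H10Coh.Pn.Results
import Groth.Agent.H27Weil.Geometry

/-!
# Complete intersections of positive dimension are geometrically connected
-/

set_option autoImplicit false
set_option linter.style.haveILetI false
set_option backward.isDefEq.respectTransparency.types false

noncomputable section

universe u

open CategoryTheory CategoryTheory.Limits AlgebraicGeometry TopologicalSpace Opposite LefPen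
open Groth.Agent.H11Tilde Groth.Agent.H11Ample

namespace Groth.Agent.H10Coh.CI

theorem surjective_appTop_of_pullSect {X Z : Scheme.{u}} (f : X ⟶ Z) {M : Z.Modules}
    (e : M ≅ Coh.structureModule Z) (h : Function.Surjective (OmegaSh.pullSect f M ⊤)) :
    Function.Surjective f.appTop := by
  let F := Scheme.Modules.pullback f
  let s := H16Derived.KFlat.Stalk.structurePullbackIso f
  let φ := F.mapIso e ≪≫ s
  let w : Γ(X, ⊤) := s.hom.app _ (OmegaSh.pullSect f (Coh.structureModule Z) ⊤ (H11Ample.one ⊤))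
  have hw : IsUnit w := H12Pic.InvDesc.isUnit_of_isGen
    (H11Tilde.IsGen.map_iso s (H11Tilde.IsGen.pullSect f (H11Ample.isGen_one ⊤)))
  intro c
  obtain ⟨m, hm⟩ := h (φ.inv.app ⊤ (show Γ(Coh.structureModule X, ⊤) from c * w))
  let a : Γ(Z, ⊤) := e.hom.app ⊤ m
  refine ⟨a, hw.mul_left_injective ?_⟩
  have h1 : s.hom.app _ (OmegaSh.pullSect f (Coh.structureModule Z) ⊤ (e.hom.app ⊤ m)) =
      (show Γ(Coh.structureModule X, ⊤) from c * w) := by
    rw [H17.PullSect.pullSect_natural, hm]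
    show (φ.inv.app ⊤ ≫ φ.hom.app ⊤) _ = _
    rw [← Scheme.Modules.Hom.comp_app, Iso.inv_hom_id]
    rfl
  rw [show e.hom.app ⊤ m = a • H11Ample.one ⊤ from (H11Ample.smul_one_eq _).symm, OmegaSh.pullSect_smul,
    Scheme.Modules.Hom.app_smul] at h1
  exact h1

theorem bijective_toGlobal {k : Type u} [Field k] {n r : ℕ} (hr : r ≤ n) {a : Fin r → ℕ} (ha : ∀ j, 1 ≤ a j)
    {G : ∀ j : Fin r, Form n k (a j)} (h : DimLE G) (h1 : 1 ≤ n - r) :
    Function.Bijective (Coh.toGlobal ((ciIdeal G).subschemeι ≫ CohB1.ProjSpace.toSpec n k)) := by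
  obtain ⟨e⟩ := PnHodge.nonempty_zero n k
  have hsurj := surjective_appTop_of_pullSect (ciIdeal G).subschemeι e
    ((good_ci hr ha h (ciIdeal G).subschemeι (ciIdeal G).ker_subschemeι 0).2 h1)
  refine ⟨?_, fun c => ?_⟩
  · obtain ⟨y, hy, -⟩ := exists_mem_zero hr ha G
    obtain ⟨x, -⟩ : y ∈ Set.range (ciIdeal G).subschemeι := by
      rw [Scheme.IdealSheafData.range_subschemeι]
      exact (CISupport.mem_support_ciIdeal G y).2 hy
    haveI : Nonempty (ciIdeal G).subscheme := ⟨x⟩
    haveI : Nonempty ((⊤ : (ciIdeal G).subscheme.Opens).toScheme) := ⟨⟨x, trivial⟩⟩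
    haveI : Nontrivial (Coh.Γtop (ciIdeal G).subscheme) := inferInstanceAs (Nontrivial Γ((ciIdeal G).subscheme, ⊤))
    exact RingHom.injective _
  · obtain ⟨b, rfl⟩ := hsurj c
    obtain ⟨z, rfl⟩ := Pn.bijective_constΓ.2 b
    exact ⟨z, rfl⟩

theorem geometricallyConnected_ci {k : Type u} [Field k] {n r : ℕ} (hr : r ≤ n) {a : Fin r → ℕ} (ha : ∀ j, 1 ≤ a j)
    {G : ∀ j : Fin r, Form n k (a j)} (h : DimLE G) (h1 : 1 ≤ n - r) :
    GeometricallyConnected ((ciIdeal G).subschemeι ≫ CohB1.ProjSpace.toSpec n k) := by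
  let f := (ciIdeal G).subschemeι ≫ CohB1.ProjSpace.toSpec n k
  have hb : Function.Bijective f.appTop := by
    have h2 : Function.Bijective (f.appTop ∘ (Scheme.ΓSpecIso (CommRingCat.of k)).inv) := bijective_toGlobal hr ha h h1
    exact (Function.Bijective.of_comp_iff _ (ConcreteCategory.bijective_of_isIso (Scheme.ΓSpecIso (CommRingCat.of k)).inv)).1 h2
  refine H8Props.Stein.geometricallyConnected_of_isIso_app f fun U _ => ?_
  rw [ConcreteCategory.isIso_iff_bijective]
  obtain rfl | rfl : U = ⊥ ∨ U = ⊤ := by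
    rcases Set.eq_empty_or_nonempty (U : Set (Spec (CommRingCat.of k))) with hU | ⟨x, hx⟩
    · exact Or.inl (Opens.ext hU)
    · exact Or.inr (Opens.ext (Set.eq_univ_of_forall fun y => (Subsingleton.elim (α := PrimeSpectrum k) x y) ▸ hx))
  · haveI : Subsingleton Γ(Spec (CommRingCat.of k), ⊥) := inferInstance
    haveI : Subsingleton Γ((ciIdeal G).subscheme, f ⁻¹ᵁ ⊥) := by
      rw [Scheme.Hom.preimage_bot]; infer_instance
    exact ⟨fun _ _ _ => Subsingleton.elim _ _, fun c => ⟨0, Subsingleton.elim _ _⟩⟩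
  · exact hb

end Groth.Agent.H10Coh.CI
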