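import Groth.Agent.H10Coh.CISupport

/-!
# Dimension of the partial intersections of a complete intersection
-/

set_option autoImplicit false
set_option linter.style.haveILetI false
set_option backward.isDefEq.respectTransparency.types false

noncomputable section

universe u

open CategoryTheory AlgebraicGeometry TopologicalSpace LefPen
open Groth.Agent.H22Alg Groth.Agent.H11Tilde

namespace Groth.Agent.H10Coh.CI

variable {k : Type u} [Field k] {n : ℕ}

/-- The common zero set of some forms has dimension at most `n - r`. -/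
def DimLE {r : ℕ} {a : Fin r → ℕ} (G : ∀ j : Fin r, Form n k (a j)) : Prop :=
  ∀ x : CohB1.ProjSpace n k, (∀ j, (G j).1 ∈ x.asHomogeneousIdeal) → ProjDim.qdim k n x ≤ n - r + 1

theorem dimLE_of_dim {r : ℕ} {a : Fin r → ℕ} (G : ∀ j : Fin r, Form n k (a j))
    (hdim : topologicalKrullDim ↥(ciIdeal G).subscheme ≤ ((n - r : ℕ) : WithBot ℕ∞)) : DimLE G := by
  intro x hx
  let A : Set (ProjectiveSpectrum (CohB1.polyGrading n k)) := Set.range (ciIdeal G).subschemeι
  have hA : IsClosed A := (ciIdeal G).subschemeι.isClosedEmbedding.isClosed_range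
  have hxA : x ∈ A := by
    show x ∈ Set.range (ciIdeal G).subschemeι
    rw [Scheme.IdealSheafData.range_subschemeι]
    exact (CISupport.mem_support_ciIdeal G x).2 hx
  have hd : topologicalKrullDim A ≤ ((n - r : ℕ) : WithBot ℕ∞) :=
    le_trans (IsHomeomorph.topologicalKrullDim_eq _
      (ciIdeal G).subschemeι.isClosedEmbedding.isEmbedding.toHomeomorph.isHomeomorph).ge hdim
  have hpos := ProjDim.qdim_pos k n x
  have h := (ProjDim.le_dim k n hA hxA (d := ProjDim.qdim k n x - 1) (by omega)).trans hd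
  have h' : ProjDim.qdim k n x - 1 ≤ n - r := by exact_mod_cast h
  omega

theorem DimLE.init {r : ℕ} (hr : r + 1 ≤ n) {a : Fin (r + 1) → ℕ} (ha : ∀ j, 1 ≤ a j)
    {G : ∀ j : Fin (r + 1), Form n k (a j)} (h : DimLE G) : DimLE fun j : Fin r => G j.castSucc := by
  intro x hx
  obtain ⟨q, hqh, hq, e, he, hle⟩ := ProjDim.exists_minimal_cut k n x {(G (Fin.last r)).1} (fun f hf => by
    rw [Finset.mem_singleton] at hf
    exact ⟨a (Fin.last r), ha _, hf ▸ (MvPolynomial.mem_homogeneousSubmodule _ _).1 (G (Fin.last r)).2⟩)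
  rw [Finset.card_singleton] at hle
  rcases Nat.eq_zero_or_pos e with rfl | hepos
  · omega
  haveI := hq.1.1
  obtain ⟨y, hy⟩ := ProjDim.exists_point k n hqh (by rw [he]; exact_mod_cast hepos)
  have hmem : ∀ g, g ∈ x.asHomogeneousIdeal.toIdeal ∨ g = (G (Fin.last r)).1 → g ∈ y.asHomogeneousIdeal.toIdeal := by
    intro g hg
    rw [hy]
    rcases hg with hg | rfl
    · exact hq.1.2 (Submodule.mem_sup_left hg)
    · exact hq.1.2 (Submodule.mem_sup_right (Ideal.subset_span (by simp)))
  have hye : ProjDim.qdim k n y = e := by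
    have h1 := ProjDim.qdim_spec k n y
    rw [hy, he] at h1
    exact_mod_cast h1.symm
  have := h y fun j => by
    refine Fin.lastCases (motive := fun j => (G j).1 ∈ y.asHomogeneousIdeal) ?_ (fun i => ?_) j
    · exact hmem _ (Or.inr rfl)
    · exact hmem _ (Or.inl (hx i))
  omega

/-- There is a common zero of `r ≤ n` forms of positive degree. -/
theorem exists_mem_zero {r : ℕ} (hr : r ≤ n) {a : Fin r → ℕ} (ha : ∀ j, 1 ≤ a j)
    (G : ∀ j : Fin r, Form n k (a j)) :
    ∃ y : CohB1.ProjSpace n k, (∀ j, (G j).1 ∈ y.asHomogeneousIdeal) ∧ n + 1 ≤ ProjDim.qdim k n y + r := by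
  classical
  obtain ⟨x, hx, hxq⟩ := ProjDim.exists_bot_point k n
  let s : Finset (MvPolynomial (Fin (n + 1)) k) := Finset.univ.image fun j => (G j).1
  obtain ⟨q, hqh, hq, e, he, hle⟩ := ProjDim.exists_minimal_cut k n x s (fun f hf => by
    obtain ⟨j, -, rfl⟩ := Finset.mem_image.1 hf
    exact ⟨a j, ha _, (MvPolynomial.mem_homogeneousSubmodule _ _).1 (G j).2⟩)
  have hcard : s.card ≤ r := Finset.card_image_le.trans (by simp)
  haveI := hq.1.1
  obtain ⟨y, hy⟩ := ProjDim.exists_point k n hqh (by rw [he]; exact_mod_cast (show 0 < e by omega))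
  have hye : ProjDim.qdim k n y = e := by
    have h1 := ProjDim.qdim_spec k n y
    rw [hy, he] at h1
    exact_mod_cast h1.symm
  refine ⟨y, fun j => ?_, by omega⟩
  show (G j).1 ∈ y.asHomogeneousIdeal.toIdeal
  rw [hy]
  exact hq.1.2 (Submodule.mem_sup_right (Ideal.subset_span (Finset.mem_image_of_mem _ (Finset.mem_univ j))))

theorem DimLE.last_ne_zero {r : ℕ} (hr : r + 1 ≤ n) {a : Fin (r + 1) → ℕ} (ha : ∀ j, 1 ≤ a j)
    {G : ∀ j : Fin (r + 1), Form n k (a j)} (h : DimLE G) : (G (Fin.last r)).1 ≠ 0 := by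
  intro h0
  obtain ⟨y, hy, hq⟩ := exists_mem_zero (r := r) (by omega) (fun j => ha j.castSucc) fun j : Fin r => G j.castSucc
  have := h y fun j => by
    refine Fin.lastCases (motive := fun j => (G j).1 ∈ y.asHomogeneousIdeal) ?_ (fun i => hy i) j
    rw [h0]
    exact zero_mem _
  omega

end Groth.Agent.H10Coh.CI
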