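import Groth.Agent.H10Coh.CI.Dim
import Groth.Agent.H22Alg.PnPoints
import Groth.Agent.H29Blow.Stalk
import Groth.Agent.H8Props.MiracleFlat
import Groth.Agent.H4Depth.Regular
import Groth.Agent.H05EGA4.DimFibre
import Groth.Agent.H13CInt.Spread
import Groth.Agent.H27Weil.Geometry

/-!
# The forms of a complete intersection form regular sequences
-/

set_option autoImplicit false
set_option linter.style.haveILetI false
set_option backward.isDefEq.respectTransparency.types false

noncomputable section

universe u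

open CategoryTheory AlgebraicGeometry TopologicalSpace LefPen RingTheory.Sequence
open Groth.Agent.H22Alg Groth.Agent.H11Tilde

namespace Groth.Agent.H10Coh.CI

variable {k : Type u} [Field k] {n : ℕ}

/-- A form vanishes at a point of a chart iff its dehomogenisation is not invertible there. -/
theorem mem_asHomogeneousIdeal_iff {d : ℕ} (G : Form n k d) (i : Fin (n + 1)) {x : CohB1.ProjSpace n k}
    (hx : x ∈ chart n k i) :
    G.1 ∈ x.asHomogeneousIdeal ↔ x ∉ (CohB1.ProjSpace n k).basicOpen (dehom G i) := by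
  rw [← CISupport.mem_support_hypIdeal,
    Scheme.IdealSheafData.mem_support_iff_of_mem (U := H25Transversal.chartU n k i) hx,
    H25Transversal.hypIdeal_ideal_chart]
  show x ∈ (CohB1.ProjSpace n k).zeroLocus (U := chart n k i)
    ((Ideal.span {dehom G i} : Ideal Γ(CohB1.ProjSpace n k, chart n k i)) :
      Set Γ(CohB1.ProjSpace n k, chart n k i)) ↔ _
  rw [Scheme.zeroLocus_span, Scheme.zeroLocus_singleton]
  rfl

theorem ciIdeal_chart {r : ℕ} {a : Fin r → ℕ} (G : ∀ j : Fin r, Form n k (a j)) (i : Fin (n + 1)) :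
    (ciIdeal G).ideal (H25Transversal.chartU n k i) = Ideal.span (Set.range fun j => dehom (G j) i) := by
  rw [ciIdeal, Scheme.IdealSheafData.ideal_iSup, iSup_apply]
  simp only [H25Transversal.hypIdeal_ideal_chart]
  exact (Submodule.span_range_eq_iSup).symm

theorem dim_subscheme_le {r : ℕ} {a : Fin r → ℕ} {G : ∀ j : Fin r, Form n k (a j)} (h : DimLE G) :
    topologicalKrullDim ↥(ciIdeal G).subscheme ≤ ((n - r : ℕ) : WithBot ℕ∞) := by
  let A : Set (ProjectiveSpectrum (CohB1.polyGrading n k)) := Set.range (ciIdeal G).subschemeι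
  have hA : IsClosed A := (ciIdeal G).subschemeι.isClosedEmbedding.isClosed_range
  refine le_trans (IsHomeomorph.topologicalKrullDim_eq _
    (ciIdeal G).subschemeι.isClosedEmbedding.isEmbedding.toHomeomorph.isHomeomorph).le ?_
  refine ProjDim.dim_le k n hA fun x hx => h x ?_
  refine (CISupport.mem_support_ciIdeal G x).1 ?_
  rw [← SetLike.mem_coe, ← Scheme.IdealSheafData.range_subschemeι]
  exact hx

theorem isWeaklyRegular_germ {r : ℕ} (hr : r ≤ n) {a : Fin r → ℕ} {G : ∀ j : Fin r, Form n k (a j)} (h : DimLE G)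
    (i : Fin (n + 1)) {x : CohB1.ProjSpace n k} (hxi : x ∈ chart n k i)
    (hx : IsClosed ({x} : Set (CohB1.ProjSpace n k))) (hG : ∀ j, (G j).1 ∈ x.asHomogeneousIdeal) :
    IsWeaklyRegular ((CohB1.ProjSpace n k).presheaf.stalk x)
      (List.ofFn fun j => (CohB1.ProjSpace n k).presheaf.germ (chart n k i) x hxi (dehom (G j) i)) := by
  obtain ⟨d, rfl⟩ : x ∈ Set.range (ciIdeal G).subschemeι := by
    rw [Scheme.IdealSheafData.range_subschemeι]
    exact (CISupport.mem_support_ciIdeal G x).2 hG
  haveI := PnPoints.isRegularLocalRing_stalk n k ((ciIdeal G).subschemeι d)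
  haveI := H4Depth.isCohenMacaulayLocalRing_of_regular ((CohB1.ProjSpace n k).presheaf.stalk ((ciIdeal G).subschemeι d))
  let f := fun j => (CohB1.ProjSpace n k).presheaf.germ (chart n k i) ((ciIdeal G).subschemeι d) hxi (dehom (G j) i)
  have hker : RingHom.ker ((ciIdeal G).subschemeι.stalkMap d).hom = Ideal.span (Set.range f) := by
    refine (H29Blow.ker_stalkMap_subschemeι (ciIdeal G) d (H25Transversal.chartU n k i) hxi).trans ?_
    refine (congrArg (Ideal.map _) (ciIdeal_chart G i)).trans ((Ideal.map_span _ _).trans (congrArg Ideal.span ?_))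
    exact (Set.range_comp _ _).symm
  refine H8Props.MiracleFlat.isWeaklyRegular_of_supportDim _ _ (fun z hz => ?_)
    LocCoh.IsCohenMacaulayLocalRing.supportDim_eq_depth ?_
  · obtain ⟨j, rfl⟩ := List.mem_ofFn.1 hz
    exact IsLocalRing.le_maximalIdeal (hker ▸ RingHom.ker_ne_top _) (Ideal.subset_span (s := Set.range f) ⟨j, rfl⟩)
  · have hI : (Ideal.ofList (List.ofFn f) • (⊤ : Submodule ((CohB1.ProjSpace n k).presheaf.stalk ((ciIdeal G).subschemeι d)) _)) =
        RingHom.ker ((ciIdeal G).subschemeι.stalkMap d).hom := by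
      rw [hker, smul_eq_mul, Ideal.mul_top, H13CInt.ofList_ofFn]
    rw [hI, Module.supportDim_quotient_eq_ringKrullDim, Module.supportDim_self_eq_ringKrullDim, List.length_ofFn,
      PnPoints.dim_stalk_of_isClosed n k hx,
      ringKrullDim_eq_of_ringEquiv (RingHom.quotientKerEquivOfSurjective
        ((ciIdeal G).subschemeι.stalkMap_surjective d))]
    refine (add_le_add_left ((H05EGA4.DimFibre.stalkDim_le_top d).trans (dim_subscheme_le h)) _).trans ?_
    exact_mod_cast (show n - r + r ≤ n by omega)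

/-- The last dehomogenised form is a nonzerodivisor modulo the previous ones. -/
theorem mem_of_mul_mem {r : ℕ} (hr : r + 1 ≤ n) {a : Fin (r + 1) → ℕ} {G : ∀ j : Fin (r + 1), Form n k (a j)}
    (h : DimLE G) (i : Fin (n + 1)) (c : Γ(CohB1.ProjSpace n k, chart n k i))
    (hc : c * dehom (G (Fin.last r)) i ∈ Ideal.span (Set.range fun j : Fin r => dehom (G j.castSucc) i)) :
    c ∈ Ideal.span (Set.range fun j : Fin r => dehom (G j.castSucc) i) := by
  set I := Ideal.span (Set.range fun j : Fin r => dehom (G j.castSucc) i) with hI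
  by_contra hcI
  obtain ⟨m, hm, hle⟩ := Ideal.exists_le_maximal (I.colon {c}) fun htop => hcI (by
    simpa [Submodule.mem_colon_singleton] using (htop ▸ trivial : (1 : Γ(CohB1.ProjSpace n k, chart n k i)) ∈ I.colon {c}))
  have hU : IsAffineOpen (chart n k i) := (H25Transversal.chartU n k i).2
  let y : Spec Γ(CohB1.ProjSpace n k, chart n k i) := ⟨m, hm.isPrime⟩
  let x : CohB1.ProjSpace n k := hU.fromSpec y
  have hxi : x ∈ chart n k i := (congrArg (x ∈ ·) hU.range_fromSpec).mp ⟨y, rfl⟩
  have hx : IsClosed ({x} : Set (CohB1.ProjSpace n k)) := by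
    haveI : IsProper (CohB1.ProjSpace.toSpec n k) := inferInstance
    haveI : JacobsonSpace (CohB1.ProjSpace n k) := LocallyOfFiniteType.jacobsonSpace (CohB1.ProjSpace.toSpec n k)
    refine isClosed_singleton_of_isLocallyClosed_singleton ?_
    have h1 : IsLocallyClosed ({y} : Set (Spec Γ(CohB1.ProjSpace n k, chart n k i))) :=
      ((PrimeSpectrum.isClosed_singleton_iff_isMaximal y).2 hm).isLocallyClosed
    have h2 := h1.image hU.fromSpec.isOpenEmbedding.isInducing hU.fromSpec.isOpenEmbedding.isOpen_range.isLocallyClosed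
    rwa [Set.image_singleton] at h2
  have hbo : ∀ f : Γ(CohB1.ProjSpace n k, chart n k i),
      x ∈ (CohB1.ProjSpace n k).basicOpen f ↔ f ∉ m := fun f => by
    show y ∈ hU.fromSpec ⁻¹ᵁ (CohB1.ProjSpace n k).basicOpen f ↔ _
    rw [hU.fromSpec_preimage_basicOpen]
    rfl
  have hmem : ∀ j, dehom (G j) i ∈ m := fun j => by
    refine Fin.lastCases (motive := fun j => dehom (G j) i ∈ m) ?_ (fun l => ?_) j
    · exact hle (Submodule.mem_colon_singleton.2 (by rw [smul_eq_mul, mul_comm]; exact hc))
    · exact hle (Submodule.mem_colon_singleton.2 (I.mul_mem_right _ (Ideal.subset_span ⟨l, rfl⟩)))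
  have hG : ∀ j, (G j).1 ∈ x.asHomogeneousIdeal := fun j => by
    rw [mem_asHomogeneousIdeal_iff (G j) i hxi, hbo]
    exact not_not_intro (hmem j)
  have hreg := (H13CInt.isWeaklyRegular_ofFn_iff _).1 (isWeaklyRegular_germ hr h i hxi hx hG) (Fin.last r)
  letI := TopCat.Presheaf.algebra_section_stalk (CohB1.ProjSpace n k).presheaf (⟨x, hxi⟩ : chart n k i)
  haveI : IsLocalization m.primeCompl ((CohB1.ProjSpace n k).presheaf.stalk x) := hU.isLocalization_stalk' y hxi
  let φ := algebraMap Γ(CohB1.ProjSpace n k, chart n k i) ((CohB1.ProjSpace n k).presheaf.stalk x)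
  have himg : Ideal.span ((fun j => (CohB1.ProjSpace n k).presheaf.germ (chart n k i) x hxi (dehom (G j) i)) ''
      Set.Iio (Fin.last r)) = I.map φ := by
    rw [hI, Ideal.map_span, ← Set.range_comp]
    congr 1
    ext z
    constructor
    · rintro ⟨j, hj, rfl⟩
      exact ⟨j.castPred (Fin.ne_last_of_lt hj), by simp only [Function.comp_apply]; rfl⟩
    · rintro ⟨l, rfl⟩
      exact ⟨l.castSucc, Fin.castSucc_lt_last l, rfl⟩
  have h2 := hreg (φ c) (by
    rw [himg]
    exact (congrArg (· ∈ I.map φ) (map_mul φ _ _)).mp (Ideal.mem_map_of_mem φ hc))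
  rw [himg] at h2
  obtain ⟨t, ht, htc⟩ := (IsLocalization.algebraMap_mem_map_algebraMap_iff m.primeCompl _ I c).1 h2
  exact ht (hle (Submodule.mem_colon_singleton.2 htc))

end Groth.Agent.H10Coh.CI
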