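import Groth.Agent.H10Coh.CI.Step
import Groth.Agent.H10Coh.CI.ClosedSeq
import Groth.Agent.H10Coh.Pn.Hodge
import Groth.Agent.H17.PullSectLocal
import Groth.Agent.H28Mero.Gen
import Groth.Agent.H11Ample.Converse

/-!
# Cohomology of complete intersections
-/

set_option autoImplicit false
set_option linter.style.haveILetI false
set_option backward.isDefEq.respectTransparency.types false

noncomputable section

universe u

open CategoryTheory CategoryTheory.Limits AlgebraicGeometry TopologicalSpace Opposite LefPen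
open Groth.Agent.H11Tilde Groth.Agent.H11Ample

namespace Groth.Agent.H10Coh.CI

section Generic

variable {X Y Z : Scheme.{u}}

/-- Vanishing in degrees `0 < p < m` and surjectivity of the restriction of global sections. -/
def Good (f : X ⟶ Z) (M : Z.Modules) (m : ℕ) : Prop :=
  (∀ p, 0 < p → p < m → Subsingleton (Coh.HH X ((Scheme.Modules.pullback f).obj M) p)) ∧
    (1 ≤ m → Function.Surjective (OmegaSh.pullSect f M ⊤))

theorem good_comp (g : X ⟶ Y) [IsClosedImmersion g] (ι : Y ⟶ Z) {M : Z.Modules} (hM : PicF.IsInvertible M)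
    {A : Y.Modules} (e : CohB1.tensorMod (ClSub.idealMod g.ker) ((Scheme.Modules.pullback ι).obj M) ≅ A)
    {m : ℕ} (hι : Good ι M (m + 1)) (hA : ∀ p, 0 < p → p < m + 1 → Subsingleton (Coh.HH Y A p)) :
    Good (g ≫ ι) M m := by
  have hN := H11Ample.isInvertible_pullback ι hM
  haveI : ((Scheme.Modules.pullback g).obj ((Scheme.Modules.pullback ι).obj M)).IsQuasicoherent :=
    H28Mero.isQCoh_of_isInvertible (H11Ample.isInvertible_pullback g hN)
  have h1 : ∀ p, 0 < p → p < m + 1 →
      Subsingleton (Coh.HH Y (CohB1.tensorMod (ClSub.idealMod g.ker) ((Scheme.Modules.pullback ι).obj M)) p) :=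
    fun p hp hpm => H10Coh.subsingleton_HH_of_iso e.symm p (hA p hp hpm)
  refine ⟨fun p hp hpm => H10Coh.subsingleton_HH_of_iso ((Scheme.Modules.pullbackComp g ι).app M) p
    (subsingleton_HH_closed g hN (hι.1 p hp (by omega)) (h1 (p + 1) (by omega) (by omega))), fun hm => ?_⟩
  intro t
  obtain ⟨s, hs⟩ := surjective_pullSect g hN (h1 1 one_pos (by omega))
    (((Scheme.Modules.pullbackComp g ι).inv.app M).app ⊤ t)
  obtain ⟨s', rfl⟩ := hι.2 (by omega) s
  refine ⟨s', ?_⟩
  have hinj : Function.Injective (((Scheme.Modules.pullbackComp g ι).inv.app M).app ((g ≫ ι) ⁻¹ᵁ ⊤)) := by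
    have : IsIso (((Scheme.Modules.pullbackComp g ι).inv.app M).app ((g ≫ ι) ⁻¹ᵁ ⊤)) :=
      Scheme.Modules.Hom.isIso_iff_isIso_app.mp inferInstance _
    exact (ConcreteCategory.bijective_of_isIso _).1
  exact hinj ((H17.PullSect.pullSect_comp g ι M ⊤ s').trans hs)

theorem good_of_ker_eq_bot (f : X ⟶ Z) [IsClosedImmersion f] (hf : f.ker = ⊥) {M : Z.Modules}
    (hM : PicF.IsInvertible M) {m : ℕ} (h : ∀ p, 0 < p → p < m → Subsingleton (Coh.HH Z M p)) : Good f M m := by
  haveI : ((Scheme.Modules.pullback f).obj M).IsQuasicoherent :=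
    H28Mero.isQCoh_of_isInvertible (H11Ample.isInvertible_pullback f hM)
  have hz : IsZero (CohB1.tensorMod (ClSub.idealMod f.ker) M) := by
    rw [IsZero.iff_id_eq_zero]
    refine Scheme.Modules.hom_ext _ _ fun W => ?_
    ext t
    refine eq_of_locally _ _ fun x hx => ?_
    obtain ⟨V, hV, e, z, hxV, -, hm⟩ := Tw.exists_eq_tm hM t hx
    obtain ⟨V', hV', hxV', hle'⟩ := exists_isAffineOpen_mem_and_subset (U := V) (x := x) hxV
    have hle : V' ≤ V := hle'
    refine ⟨V', le_trans hle hV, hxV', ?_⟩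
    have hz0 : (ClSub.idealMod f.ker).presheaf.map (homOfLE hle).op z = 0 := by
      refine H29Blow.idealSect_injective f.ker V' (Eq.trans ?_ (map_zero _).symm)
      have h2 := (H29Blow.mem_ideal_iff_exists_idealSect f.ker hV' _).2
        ⟨(ClSub.idealMod f.ker).presheaf.map (homOfLE hle).op z, rfl⟩
      have h3 := (congrArg (fun J : Z.IdealSheafData => J.ideal ⟨V', hV'⟩) hf).le h2
      rw [Scheme.IdealSheafData.ideal_bot] at h3
      exact (Submodule.mem_bot _).1 h3
    show (CohB1.tensorMod (ClSub.idealMod f.ker) M).presheaf.map _ t =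
      (CohB1.tensorMod (ClSub.idealMod f.ker) M).presheaf.map _ 0
    refine Eq.trans ?_ (map_zero _).symm
    refine (H10Coh.mres_mres _ hV hle t).symm.trans ?_
    refine (congrArg _ hm).trans ((tm_res hle z e).trans ?_)
    rw [hz0, tm_zero_left]
  exact ⟨fun p hp hpm => subsingleton_HH_closed f hM (h p hp hpm) (ExtPowFree.subsingleton_HH_of_isZero hz (p + 1)),
    fun _ => surjective_pullSect f hM (ExtPowFree.subsingleton_HH_of_isZero hz 1)⟩

theorem comap_map_of_isClosedImmersion (ι : Y ⟶ Z) [IsClosedImmersion ι] (J : Y.IdealSheafData) :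
    (J.map ι).comap ι = J := by
  refine le_antisymm (Scheme.IdealSheafData.comap_map_le _ _) ?_
  suffices key : ∀ U : Z.affineOpens,
      J.ideal ⟨ι ⁻¹ᵁ U.1, U.2.preimage ι⟩ ≤ ((J.map ι).comap ι).ideal ⟨ι ⁻¹ᵁ U.1, U.2.preimage ι⟩ by
    refine inf_eq_left.1 (Scheme.IdealSheafData.ext_of_iSup_eq_top (fun U : Z.affineOpens => ⟨ι ⁻¹ᵁ U.1, U.2.preimage ι⟩) ?_ fun U => ?_)
    · exact (ι.preimage_iSup _).symm.trans ((congrArg (ι ⁻¹ᵁ ·) (iSup_affineOpens_eq_top Z)).trans ι.preimage_top)
    · rw [Scheme.IdealSheafData.ideal_inf]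
      exact inf_eq_left.2 (key U)
  intro U c hc
  rw [H29Blow.ideal_comap _ _ U ⟨_, U.2.preimage ι⟩ le_rfl]
  obtain ⟨b, rfl⟩ := app_surjective ι U.2 c
  rw [Scheme.Hom.appLE_eq_app]
  refine Ideal.mem_map_of_mem _ ?_
  rw [Scheme.IdealSheafData.ideal_map_of_isAffineHom]
  exact hc

end Generic

variable {k : Type u} [Field k] {n : ℕ}

theorem good_ci : ∀ {r : ℕ}, r ≤ n → ∀ {a : Fin r → ℕ}, (∀ j, 1 ≤ a j) → ∀ {G : ∀ j : Fin r, Form n k (a j)}, DimLE G →
    ∀ {X : Scheme.{u}} (f : X ⟶ CohB1.ProjSpace n k) [IsClosedImmersion f], f.ker = ciIdeal G →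
      ∀ i : ℤ, Good f (Twist.twistProjSpace n k i) (n - r) := by
  intro r
  induction r with
  | zero =>
    intro _ a _ G _ X f _ hf i
    refine good_of_ker_eq_bot f (by rw [hf, ciIdeal, iSup_of_empty]) (H22Alg.RegSheaf.isInvertible_twistProjSpace n k i)
      fun p hp hpn => PnHodge.subsingleton_twist n k i p (by omega) (by omega)
  | succ r ih =>
    intro hr a ha G h X f _ hf i
    let I' := ciIdeal fun j : Fin r => G j.castSucc
    have hle : I' ≤ ciIdeal G := iSup_le fun j => le_iSup (fun l => hypIdeal (G l)) j.castSucc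
    let g : X ⟶ I'.subscheme := IsClosedImmersion.lift I'.subschemeι f (by rw [hf, I'.ker_subschemeι]; exact hle)
    have hfac : g ≫ I'.subschemeι = f := IsClosedImmersion.lift_fac _ _ _
    haveI : IsClosedImmersion g := by
      haveI : IsClosedImmersion (g ≫ I'.subschemeι) := hfac.symm ▸ inferInstance
      exact IsClosedImmersion.of_comp_isClosedImmersion g I'.subschemeι
    have hker : g.ker = (hypIdeal (G (Fin.last r))).comap I'.subschemeι := by
      have hsplit : ciIdeal G = I' ⊔ hypIdeal (G (Fin.last r)) :=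
        le_antisymm (iSup_le fun j => by
          refine Fin.lastCases (motive := fun j => hypIdeal (G j) ≤ I' ⊔ hypIdeal (G (Fin.last r))) le_sup_right
            (fun l => le_sup_of_le_left (le_iSup (fun l : Fin r => hypIdeal (G l.castSucc)) l)) j)
          (sup_le hle (le_iSup (fun l => hypIdeal (G l)) (Fin.last r)))
      have hbot : I'.comap I'.subschemeι = ⊥ := by
        refine eq_bot_iff.2 ?_
        have := Scheme.IdealSheafData.comap_map_le (⊥ : I'.subscheme.IdealSheafData) I'.subschemeι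
        rwa [Scheme.IdealSheafData.map_bot, I'.ker_subschemeι] at this
      rw [← comap_map_of_isClosedImmersion I'.subschemeι g.ker, Scheme.IdealSheafData.map_ker, hfac, hf, hsplit,
        Scheme.IdealSheafData.comap_sup, hbot, bot_sup_eq]
    obtain ⟨φ⟩ := nonempty_idealMod_comap hr ha h
    obtain ⟨τ⟩ := H11Tilde.nonempty_twist_tensor_iso (CohB1.polyGrading n k) (H22Alg.RegSheaf.cover n k)
      (-(a (Fin.last r) : ℤ)) i (-(a (Fin.last r) : ℤ) + i) rfl
    have hn : n - r = n - (r + 1) + 1 := by omega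
    have hih := fun i => ih (Nat.le_of_succ_le hr) (fun j => ha j.castSucc) (h.init hr ha) I'.subschemeι I'.ker_subschemeι i
    have := good_comp g I'.subschemeι (H22Alg.RegSheaf.isInvertible_twistProjSpace n k i)
      (A := (Scheme.Modules.pullback I'.subschemeι).obj (Twist.twistProjSpace n k (-(a (Fin.last r) : ℤ) + i)))
      (PicGrp.tensorModIso (eqToIso (congrArg ClSub.idealMod hker) ≪≫ φ) (Iso.refl _) ≪≫
        ((H16Derived.KFlat.Stalk.pullTensorLIso I'.subschemeι _).app _).symm ≪≫
        (Scheme.Modules.pullback I'.subschemeι).mapIso τ)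
      (m := n - (r + 1)) (hn ▸ hih i) (fun p hp hpm => (hn ▸ hih (-(a (Fin.last r) : ℤ) + i)).1 p hp hpm)
    exact hfac ▸ this

end Groth.Agent.H10Coh.CI
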