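import Groth.Agent.H10Coh.CI.Regular
import Groth.Agent.H10Coh.CI.HypMod
import Groth.Agent.H12Pic.CurveFam.ComapIdeal
import Groth.Agent.H29Blow.IdealMod

/-!
# One step of a complete intersection
-/

set_option autoImplicit false
set_option linter.style.haveILetI false
set_option backward.isDefEq.respectTransparency.types false

noncomputable section

universe u

open CategoryTheory AlgebraicGeometry TopologicalSpace Opposite LefPen
open Groth.Agent.H11Tilde Groth.Agent.H11Ample

namespace Groth.Agent.H10Coh.CI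

variable {k : Type u} [Field k] {n : ℕ}

theorem isEffCartierIdeal_comap {r : ℕ} (hr : r + 1 ≤ n) {a : Fin (r + 1) → ℕ}
    {G : ∀ j : Fin (r + 1), Form n k (a j)} (h : DimLE G) :
    BlowUp.IsEffCartierIdeal ((hypIdeal (G (Fin.last r))).comap (ciIdeal fun j : Fin r => G j.castSucc).subschemeι) := by
  intro y
  obtain ⟨i, hi⟩ := exists_chart_mem ((ciIdeal fun j : Fin r => G j.castSucc).subschemeι y)
  let U := H25Transversal.chartU n k i
  have hUY : IsAffineOpen ((ciIdeal fun j : Fin r => G j.castSucc).subschemeι ⁻¹ᵁ U.1) := U.2.preimage _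
  refine ⟨⟨_, hUY⟩, hi, (ciIdeal fun j : Fin r => G j.castSucc).subschemeι.app U.1 (dehom (G (Fin.last r)) i),
    mem_nonZeroDivisors_iff_right.2 fun b hb => ?_, ?_⟩
  · obtain ⟨c, rfl⟩ := (ciIdeal fun j : Fin r => G j.castSucc).subschemeι_app_surjective U b
    have hker := (ciIdeal fun j : Fin r => G j.castSucc).ker_subschemeι_app U
    have h1 : c * (show Γ(CohB1.ProjSpace n k, U.1) from dehom (G (Fin.last r)) i) ∈
        RingHom.ker ((ciIdeal fun j : Fin r => G j.castSucc).subschemeι.app U.1).hom :=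
      (map_mul ((ciIdeal fun j : Fin r => G j.castSucc).subschemeι.app U.1).hom _ _).trans hb
    rw [hker] at h1
    have h2 : c ∈ RingHom.ker ((ciIdeal fun j : Fin r => G j.castSucc).subschemeι.app U.1).hom := by
      rw [hker]
      show c ∈ (ciIdeal fun j : Fin r => G j.castSucc).ideal (H25Transversal.chartU n k i)
      rw [ciIdeal_chart]
      refine mem_of_mul_mem hr h i c ?_
      rw [← ciIdeal_chart (fun j : Fin r => G j.castSucc) i]
      exact h1
    exact h2
  · rw [H29Blow.ideal_comap _ _ U ⟨_, hUY⟩ le_rfl]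
    refine (congrArg (Ideal.map _) (H25Transversal.hypIdeal_ideal_chart (G (Fin.last r)) i)).trans ?_
    rw [Scheme.Hom.appLE_eq_app]
    exact (Ideal.map_span _ _).trans (congrArg Ideal.span Set.image_singleton)

theorem nonempty_idealMod_comap {r : ℕ} (hr : r + 1 ≤ n) {a : Fin (r + 1) → ℕ} (ha : ∀ j, 1 ≤ a j)
    {G : ∀ j : Fin (r + 1), Form n k (a j)} (h : DimLE G) :
    Nonempty (ClSub.idealMod ((hypIdeal (G (Fin.last r))).comap (ciIdeal fun j : Fin r => G j.castSucc).subschemeι) ≅
      (Scheme.Modules.pullback (ciIdeal fun j : Fin r => G j.castSucc).subschemeι).obj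
        (Twist.twistProjSpace n k (-(a (Fin.last r) : ℤ)))) := by
  have hG := h.last_ne_zero hr ha
  obtain ⟨φ⟩ := nonempty_idealMod_hypIdeal (G (Fin.last r)) hG
  obtain ⟨ψ⟩ := H12Pic.CurveFam.nonempty_pullback_idealMod_comap
    (ciIdeal fun j : Fin r => G j.castSucc).subschemeι (isEffCartierIdeal_hypIdeal (G (Fin.last r)) hG)
    (isEffCartierIdeal_comap hr h)
  exact ⟨ψ.symm ≪≫ (Scheme.Modules.pullback _).mapIso φ⟩

end Groth.Agent.H10Coh.CI
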