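import Groth.Agent.H10Coh.CI.Seq
import Groth.Agent.H10Coh.Pn.HyperPn
import Groth.Agent.H28Int.Push
import Groth.Agent.LeadProper.Supp
import Groth.Agent.H27Weil.Geometry
import Groth.Agent.H28Int.Core

/-!
# The top cohomology of twists on a complete intersection

On a complete intersection `X` of dimension `n - r ≥ 1` the dimension of `H^{n-r}(X, O(c))` is positive exactly
when `c ≤ Σ aⱼ - n - 1`.
-/

set_option autoImplicit false
set_option linter.style.haveILetI false
set_option backward.isDefEq.respectTransparency.types false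
set_option maxHeartbeats 1000000

noncomputable section

universe u

open CategoryTheory CategoryTheory.Limits AlgebraicGeometry TopologicalSpace Opposite LefPen

namespace Groth.Agent.H10Coh.CI

/-- Iterated differences of the dimensions of the top cohomology groups. -/
def topB (n : ℕ) : ∀ {r : ℕ}, (Fin r → ℕ) → ℕ → ℤ → ℤ
  | 0, _, t, c => if c ≤ -((n : ℤ) + 1) then ((-c - 1 - t).toNat.choose (n - t) : ℤ) else 0
  | r + 1, a, t, c => ∑ i ∈ Finset.range (a (Fin.last r)),
      topB n (fun j : Fin r => a j.castSucc) (t + 1) (c - (a (Fin.last r) : ℤ) + i)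

/-- The threshold `Σ aⱼ - n - 1`. -/
def topE (n : ℕ) {r : ℕ} (a : Fin r → ℕ) : ℤ := (∑ j, (a j : ℤ)) - n - 1

theorem topB_props (n : ℕ) : ∀ {r : ℕ} (a : Fin r → ℕ), (∀ j, 1 ≤ a j) → ∀ t : ℕ, t + r ≤ n →
    (∀ c, 0 ≤ topB n a t c) ∧ (∀ c, topE n a < c → topB n a t c = 0) ∧ topB n a t (topE n a) = 1 ∧
      (t + r < n → ∀ c, topB n a t c - topB n a t (c + 1) = topB n a (t + 1) c)
  | 0, a, _, t, ht => by
    have he : topE n a = -((n : ℤ) + 1) := by simp [topE]; ring
    refine ⟨fun c => ?_, fun c hc => ?_, ?_, fun htn c => ?_⟩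
    · simp only [topB]; split <;> simp
    · simp only [topB]; rw [if_neg (by omega)]
    · simp only [topB]
      rw [he, if_pos le_rfl, show (- -((n : ℤ) + 1) - 1 - t).toNat = n - t by omega, Nat.choose_self]
      rfl
    · simp only [topB]
      rcases lt_trichotomy c (-((n : ℤ) + 1)) with hc | hc | hc
      · rw [if_pos hc.le, if_pos (by omega), if_pos hc.le, show (-c - 1 - (t : ℤ)).toNat =
          (-c - 1 - ((t + 1 : ℕ) : ℤ)).toNat + 1 by omega, show (-(c + 1) - 1 - (t : ℤ)).toNat =
          (-c - 1 - ((t + 1 : ℕ) : ℤ)).toNat by omega, show n - t = (n - (t + 1)) + 1 by omega,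
          Nat.choose_succ_succ']
        push_cast
        ring
      · subst hc
        rw [if_pos le_rfl, if_neg (by omega), if_pos le_rfl,
          show (- -((n : ℤ) + 1) - 1 - (t : ℤ)).toNat = n - t by omega,
          show (- -((n : ℤ) + 1) - 1 - ((t + 1 : ℕ) : ℤ)).toNat = n - (t + 1) by omega, Nat.choose_self, Nat.choose_self]
        simp
      · rw [if_neg (by omega), if_neg (by omega), if_neg (by omega)]
        simp
  | r + 1, a, ha, t, ht => by
    obtain ⟨h1, h2, h3, h4⟩ := topB_props n (fun j : Fin r => a j.castSucc) (fun j => ha _) (t + 1) (by omega)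
    have he : topE n a = topE n (fun j : Fin r => a j.castSucc) + a (Fin.last r) := by
      simp only [topE, Fin.sum_univ_castSucc]; ring
    refine ⟨fun c => ?_, fun c hc => ?_, ?_, fun htn c => ?_⟩
    · simp only [topB]
      exact Finset.sum_nonneg fun i _ => h1 _
    · simp only [topB]
      exact Finset.sum_eq_zero fun i _ => h2 _ (by omega)
    · simp only [topB]
      rw [Finset.sum_eq_single_of_mem 0 (Finset.mem_range.2 (ha _)) fun i _ hi => h2 _ (by omega)]
      rw [he, Nat.cast_zero, add_zero, add_sub_cancel_right, h3]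
    · simp only [topB]
      rw [← Finset.sum_sub_distrib]
      refine Finset.sum_congr rfl fun i _ => ?_
      rw [show c + 1 - (a (Fin.last r) : ℤ) + i = c - (a (Fin.last r) : ℤ) + i + 1 by ring]
      exact h4 (by omega) _

theorem topB_succ (n : ℕ) {r : ℕ} (a : Fin (r + 1) → ℕ) (ha : ∀ j, 1 ≤ a j) (hr : r + 1 ≤ n) (c : ℤ) :
    topB n a 0 c = topB n (fun j : Fin r => a j.castSucc) 0 (c - (a (Fin.last r) : ℤ)) -
      topB n (fun j : Fin r => a j.castSucc) 0 c := by
  obtain ⟨-, -, -, h4⟩ := topB_props n (fun j : Fin r => a j.castSucc) (fun j => ha _) 0 (by omega)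
  have key : ∀ d : ℕ, ∑ i ∈ Finset.range d, topB n (fun j : Fin r => a j.castSucc) 1 (c - (a (Fin.last r) : ℤ) + i) =
      topB n (fun j : Fin r => a j.castSucc) 0 (c - (a (Fin.last r) : ℤ)) -
        topB n (fun j : Fin r => a j.castSucc) 0 (c - (a (Fin.last r) : ℤ) + d) := by
    intro d
    induction d with
    | zero => simp
    | succ d ih =>
      rw [Finset.sum_range_succ, ih, ← h4 (by omega),
        show c - (a (Fin.last r) : ℤ) + ((d + 1 : ℕ) : ℤ) = c - (a (Fin.last r) : ℤ) + d + 1 by push_cast; ring]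
      ring
  refine (key (a (Fin.last r))).trans ?_
  rw [sub_add_cancel]

theorem topB_pos_iff (n : ℕ) {r : ℕ} (a : Fin r → ℕ) (ha : ∀ j, 1 ≤ a j) (hr : r < n) (c : ℤ) :
    0 < topB n a 0 c ↔ c ≤ topE n a := by
  obtain ⟨-, h2, h3, h4⟩ := topB_props n a ha 0 (by omega)
  obtain ⟨h1, -, -, -⟩ := topB_props n a ha 1 (by omega)
  refine ⟨fun h => ?_, fun hc => ?_⟩
  · by_contra hc
    exact absurd (h2 c (by omega)) h.ne'
  · have key : ∀ d : ℕ, 1 ≤ topB n a 0 (topE n a - d) := by
      intro d
      induction d with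
      | zero => simpa using h3.ge
      | succ d ih =>
        have h5 := h4 (by omega) (topE n a - (d + 1 : ℕ))
        rw [show topE n a - ((d + 1 : ℕ) : ℤ) + 1 = topE n a - d by push_cast; ring] at h5
        have h6 := h1 (topE n a - (d + 1 : ℕ))
        rw [zero_add] at h5
        omega
    obtain ⟨d, hd⟩ := Int.le.dest hc
    have := key d
    rw [show topE n a - (d : ℤ) = c by omega] at this
    omega

variable {k : Type u} [Field k] {n : ℕ}

/-- The dimension of the top cohomology of a twist on a complete intersection. -/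
theorem finrank_top_ci : ∀ {r : ℕ}, r < n → ∀ {a : Fin r → ℕ}, (∀ j, 1 ≤ a j) →
    ∀ {G : ∀ j : Fin r, Form n k (a j)}, DimLE G →
      ∀ [(ciIdeal G).subscheme.Over (Spec (CommRingCat.of k))],
        (ciIdeal G).subscheme ↘ Spec (CommRingCat.of k) = (ciIdeal G).subschemeι ≫ CohB1.ProjSpace.toSpec n k →
        ∀ i : ℤ, (Module.finrank k (Coh.HH (ciIdeal G).subscheme
          ((Scheme.Modules.pullback (ciIdeal G).subschemeι).obj (Twist.twistProjSpace n k i)) (n - r)) : ℤ) =
            topB n a 0 i := by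
  haveI : IsProper (CohB1.ProjSpace.toSpec n k) := H27Weil.isProper_toSpec n k
  intro r
  induction r with
  | zero =>
    intro hn a _ G _ _ hG i
    let f := (ciIdeal G).subschemeι
    let M := Twist.twistProjSpace n k i
    have hM := H22Alg.RegSheaf.isInvertible_twistProjSpace n k i
    have hq : Coh.IsQCoh M := H28Mero.isQCoh_of_isInvertible hM
    haveI : ((Scheme.Modules.pullback f).obj M).IsQuasicoherent :=
      H28Mero.isQCoh_of_isInvertible (H11Ample.isInvertible_pullback f hM)
    have hker : f.ker = ⊥ := by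
      show (ciIdeal G).subschemeι.ker = ⊥
      rw [Scheme.IdealSheafData.ker_subschemeι, ciIdeal, iSup_of_empty]
    haveI : IsIso ((Scheme.Modules.pullbackPushforwardAdjunction f).unit.app M) :=
      LeadProper.isIso_unit_of_killedByIdeal M hq f (fun U b hb s => by
        rw [hker, Scheme.IdealSheafData.ideal_bot] at hb
        rw [(Submodule.mem_bot _).1 hb, zero_smul])
    rw [← H28Int.Push.finrank_HH_push k f hG.symm]
    let e : Twist.twistProjSpace n k i ≅ (Coh.push f).obj ((Scheme.Modules.pullback f).obj (Twist.twistProjSpace n k i)) :=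
      asIso ((Scheme.Modules.pullbackPushforwardAdjunction f).unit.app M)
    erw [← (HHSeq.isoₗ (A := k) e (n - 0)).finrank_eq]
    rw [Nat.sub_zero, (Hyper.finrank_top (F := k) (by omega) i).2]
    simp only [topB, CharP.cast_eq_zero, sub_zero, Nat.sub_zero]
    split
    · rfl
    · rw [Nat.choose_eq_zero_of_lt (by omega)]
      rfl
  | succ r ih =>
    intro hr a ha G h _ hG i
    let I := ciIdeal G
    let I' := ciIdeal fun j : Fin r => G j.castSucc
    letI : I'.subscheme.Over (Spec (CommRingCat.of k)) := ⟨I'.subschemeι ≫ CohB1.ProjSpace.toSpec n k⟩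
    have hle : I' ≤ I := iSup_le fun j => le_iSup (fun l => hypIdeal (G l)) j.castSucc
    let g : I.subscheme ⟶ I'.subscheme := IsClosedImmersion.lift I'.subschemeι I.subschemeι (by
      rw [I.ker_subschemeι, I'.ker_subschemeι]; exact hle)
    have hfac : g ≫ I'.subschemeι = I.subschemeι := IsClosedImmersion.lift_fac _ _ _
    haveI : IsClosedImmersion g := by
      haveI : IsClosedImmersion (g ≫ I'.subschemeι) := hfac.symm ▸ inferInstance
      exact IsClosedImmersion.of_comp_isClosedImmersion g I'.subschemeι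
    have hker : g.ker = (hypIdeal (G (Fin.last r))).comap I'.subschemeι := by
      have hsplit : ciIdeal G = I' ⊔ hypIdeal (G (Fin.last r)) :=
        le_antisymm (iSup_le fun j => by
          refine Fin.lastCases (motive := fun j => hypIdeal (G j) ≤ I' ⊔ hypIdeal (G (Fin.last r))) le_sup_right
            (fun l => le_sup_of_le_left (le_iSup (fun l : Fin r => hypIdeal (G l.castSucc)) l)) j)
          (sup_le hle (le_iSup (fun l => hypIdeal (G l)) (Fin.last r)))
      have hbot : I'.comap I'.subschemeι = ⊥ := by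
        refine eq_bot_iff.2 ?_
        have := Scheme.IdealSheafData.comap_map_le (⊥ : I'.subscheme.IdealSheafData) I'.subschemeι
        rwa [Scheme.IdealSheafData.map_bot, I'.ker_subschemeι] at this
      rw [← comap_map_of_isClosedImmersion I'.subschemeι g.ker, Scheme.IdealSheafData.map_ker, hfac,
        I.ker_subschemeι, show I = _ from hsplit, Scheme.IdealSheafData.comap_sup, hbot, bot_sup_eq]
    obtain ⟨φ⟩ := nonempty_idealMod_comap (show r + 1 ≤ n by omega) ha h
    obtain ⟨τ⟩ := H11Tilde.nonempty_twist_tensor_iso (CohB1.polyGrading n k) (H22Alg.RegSheaf.cover n k)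
      (-(a (Fin.last r) : ℤ)) i (i - (a (Fin.last r) : ℤ)) (by ring)
    let T := fun c : ℤ => (Scheme.Modules.pullback I'.subschemeι).obj (Twist.twistProjSpace n k c)
    have hT : ∀ c, PicF.IsInvertible (T c) := fun c =>
      H11Ample.isInvertible_pullback _ (H22Alg.RegSheaf.isInvertible_twistProjSpace n k c)
    let e₁ : CohB1.tensorMod (ClSub.idealMod g.ker) (T i) ≅ T (i - (a (Fin.last r) : ℤ)) :=
      PicGrp.tensorModIso (eqToIso (congrArg ClSub.idealMod hker) ≪≫ φ) (Iso.refl _) ≪≫
        ((H16Derived.KFlat.Stalk.pullTensorLIso I'.subschemeι _).app _).symm ≪≫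
        (Scheme.Modules.pullback I'.subschemeι).mapIso τ
    haveI : IsProper (I'.subscheme ↘ Spec (CommRingCat.of k)) :=
      inferInstanceAs (IsProper (I'.subschemeι ≫ CohB1.ProjSpace.toSpec n k))
    haveI : IsLocallyNoetherian I'.subscheme :=
      LocallyOfFiniteType.isLocallyNoetherian (I'.subscheme ↘ Spec (CommRingCat.of k))
    haveI : IsNoetherian I'.subscheme := H28Int.isNoetherian k (X := I'.subscheme)
    haveI : IsProper (I.subscheme ↘ Spec (CommRingCat.of k)) := by rw [hG]; infer_instance
    haveI : IsNoetherian I.subscheme := H28Int.isNoetherian k (X := I.subscheme)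
    have hd : topologicalKrullDim I'.subscheme ≤ ((n - r : ℕ) : WithBot ℕ∞) :=
      dim_subscheme_le (h.init (show r + 1 ≤ n by omega) ha)
    have hd' : topologicalKrullDim I.subscheme ≤ ((n - (r + 1) : ℕ) : WithBot ℕ∞) := dim_subscheme_le h
    have hmid : ∀ c q, 0 < q → q ≠ n - (r + 1) + 1 → Subsingleton (Coh.HH I'.subscheme (T c) q) := fun c q hq hne => by
      rcases lt_or_gt_of_ne hne with hlt | hgt
      · exact (good_ci (show r ≤ n by omega) (fun j => ha _) (h.init (show r + 1 ≤ n by omega) ha) I'.subschemeι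
          I'.ker_subschemeι c).1 q hq (by omega)
      · exact LeadVan.subsingleton_H_of_dim_le (n - r) hd _ q (by omega)
    haveI : ((Scheme.Modules.pullback g).obj (T i)).IsQuasicoherent :=
      H28Mero.isQCoh_of_isInvertible (H11Ample.isInvertible_pullback g (hT i))
    have hcoh : ∀ c, Coh.IsCoh (T c) := fun c => H11Ample.isCoh_of_isInvertible (hT c)
    have hA : Coh.IsCoh (CohB1.tensorMod (ClSub.idealMod g.ker) (T i)) := H10Coh.isCoh_of_iso e₁.symm (hcoh _)
    have hQ : Subsingleton (Coh.HH I'.subscheme ((Coh.push g).obj ((Scheme.Modules.pullback g).obj (T i)))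
        (n - (r + 1) + 1)) :=
      @Equiv.subsingleton _ _ (H7Flat.CohDim.lerayHH g ((Scheme.Modules.pullback g).obj (T i)) _).toEquiv
        (LeadVan.subsingleton_H_of_dim_le (n - (r + 1)) hd' _ _ (by omega))
    have key := ((Hyper.dims_generic (F := k) (closedSeq_shortExact g (hT i)) (d := n - (r + 1)) hQ
      (fun q hq hne => H10Coh.subsingleton_HH_of_iso e₁.symm q (hmid _ q hq hne)) (fun q hq hne => hmid i q hq hne)
      ⟨H10Coh.finite_HH_proper k _ _ hA 0, rfl⟩ ⟨H10Coh.finite_HH_proper k _ _ (hcoh i) 0, rfl⟩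
      ⟨H10Coh.finite_HH_proper k _ _ hA _, rfl⟩ ⟨H10Coh.finite_HH_proper k _ _ (hcoh i) _, rfl⟩).2.2 (by omega)).2
    have hgk : g ≫ (I'.subscheme ↘ Spec (CommRingCat.of k)) = I.subscheme ↘ Spec (CommRingCat.of k) := by
      rw [hG]
      show g ≫ I'.subschemeι ≫ CohB1.ProjSpace.toSpec n k = _
      rw [← Category.assoc, hfac]
    have hX : Module.finrank k (Coh.HH I'.subscheme ((Coh.push g).obj ((Scheme.Modules.pullback g).obj (T i)))
        (n - (r + 1))) = Module.finrank k (Coh.HH I.subscheme
          ((Scheme.Modules.pullback I.subschemeι).obj (Twist.twistProjSpace n k i)) (n - (r + 1))) :=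
      (H28Int.Push.finrank_HH_push k g hgk _ _).trans (HHSeq.isoₗ (A := k)
        ((Scheme.Modules.pullbackComp g I'.subschemeι).app _ ≪≫
          (Scheme.Modules.pullbackCongr hfac).app _) _).finrank_eq
    have hih : ∀ c, (Module.finrank k (Coh.HH I'.subscheme (T c) (n - (r + 1) + 1)) : ℤ) =
        topB n (fun j : Fin r => a j.castSucc) 0 c := fun c => by
      rw [show n - (r + 1) + 1 = n - r by omega]
      exact ih (by omega) (fun j => ha _) (h.init (show r + 1 ≤ n by omega) ha) rfl c
    have h0 := (topB_props n a ha 0 (by omega)).1 i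
    change Module.finrank k (Coh.HH I'.subscheme ((Coh.push g).obj ((Scheme.Modules.pullback g).obj (T i)))
      (n - (r + 1))) = Module.finrank k (Coh.HH I'.subscheme (CohB1.tensorMod (ClSub.idealMod g.ker) (T i))
        (n - (r + 1) + 1)) - Module.finrank k (Coh.HH I'.subscheme (T i) (n - (r + 1) + 1)) at key
    rw [hX, (HHSeq.isoₗ (A := k) e₁ _).finrank_eq] at key
    rw [key]
    rw [topB_succ n a ha (by omega) i, ← hih, ← hih] at h0 ⊢
    omega

end Groth.Agent.H10Coh.CI
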